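import Groth.Agent.TorDevissage.Basic

/-!
# Vanishing of `Tor` from a finite family of localizations and the quotient
-/

set_option autoImplicit false

universe u

open TensorProduct

namespace Groth.Agent.TorDevissage

variable {A : Type u} [CommRing A] {M : Type u} [AddCommGroup M] [Module A M] (R : Res A M)

/-- Vanishing on modules killed by a power of `I`. -/
theorem E_of_pow (I : Ideal A) [Module.Flat (A ⧸ I) ((A ⧸ I) ⊗[A] M)] (k : ℕ) (h : ∀ l, l ≤ k → E R l (A ⧸ I)) :
    ∀ (n : ℕ) (N : Type u) [AddCommGroup N] [Module A N], (∀ a ∈ I ^ n, ∀ x : N, a • x = 0) → E R k N := by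
  intro n
  induction n with
  | zero =>
    intro N _ _ hN
    haveI : Subsingleton N := subsingleton_of_forall_eq 0 fun x => by
      simpa using hN 1 (by simp) x
    exact E_of_forall R fun x _ => ⟨0, Subsingleton.elim _ _⟩
  | succ n ih =>
    intro N _ _ hN
    let L : Submodule A N := I • ⊤
    have hL : ∀ a ∈ I ^ n, ∀ x : L, a • x = 0 := by
      intro a ha x
      have key : ∀ y ∈ L, a • y = 0 := by
        intro y hy
        refine Submodule.smul_induction_on hy ?_ ?_
        · intro b hb z _
          rw [smul_smul]
          exact hN _ (by rw [pow_succ]; exact Ideal.mul_mem_mul ha hb) z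
        · intro y z hy hz
          rw [smul_add, hy, hz, add_zero]
      exact Subtype.ext (key x x.2)
    have hQ : Module.IsTorsionBySet A (N ⧸ L) I := by
      rintro x ⟨a, ha⟩
      induction x using Submodule.Quotient.induction_on with
      | _ x =>
        show a • Submodule.Quotient.mk x = 0
        rw [← Submodule.Quotient.mk_smul, Submodule.Quotient.mk_eq_zero]
        exact Submodule.smul_mem_smul ha trivial
    letI := hQ.module
    haveI : IsScalarTower A (A ⧸ I) (N ⧸ L) := hQ.isScalarTower
    exact E_mid R L.subtype L.mkQ (LinearMap.exact_subtype_mkQ L) L.mkQ_surjective (ih L hL)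
      (E_of_algebra R (A ⧸ I) k h (N ⧸ L)) L.injective_subtype

/-- A property of modules: every element is killed by a power of each `f i` for `i ≥ j`. -/
def TorsFrom {r : ℕ} (f : Fin r → A) (j : ℕ) (N : Type u) [AddCommGroup N] [Module A N] : Prop :=
  ∀ i : Fin r, j ≤ (i : ℕ) → ∀ x : N, ∃ n : ℕ, f i ^ n • x = 0

/-- Dévissage over the members of the family. -/
theorem E_of_torsFrom {r : ℕ} (f : Fin r → A)
    [Module.Flat (A ⧸ Ideal.span (Set.range f)) ((A ⧸ Ideal.span (Set.range f)) ⊗[A] M)]
    (h1 : ∀ i, Module.Flat (Localization.Away (f i)) (Localization.Away (f i) ⊗[A] M))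
    (h3 : ∀ l, l ≤ r → E R l (A ⧸ Ideal.span (Set.range f))) :
    ∀ j, j ≤ r → ∀ k, k + j ≤ r → ∀ (N : Type u) [AddCommGroup N] [Module A N], TorsFrom f j N → E R k N := by
  intro j
  induction j with
  | zero =>
    intro _ k hk N _ _ hN
    refine E_of_fg R fun L hL => ?_
    have hrad : Ideal.span (Set.range f) ≤ (Module.annihilator A L).radical := by
      rw [Ideal.span_le]
      rintro _ ⟨i, rfl⟩
      obtain ⟨s, hs⟩ := hL
      choose n hn using fun x : N => hN i (Nat.zero_le _) x
      refine ⟨s.sup n, Module.mem_annihilator.2 fun x => Subtype.ext ?_⟩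
      have key : ∀ y ∈ Submodule.span A (s : Set N), f i ^ s.sup n • y = 0 := by
        intro y hy
        refine Submodule.span_induction ?_ (smul_zero _) ?_ ?_ hy
        · intro y hy
          obtain ⟨d, hd⟩ := Nat.exists_eq_add_of_le (Finset.le_sup (f := n) hy)
          rw [hd, pow_add, mul_comm, mul_smul, hn, smul_zero]
        · intro a b _ _ ha hb
          rw [smul_add, ha, hb, add_zero]
        · intro c a _ ha
          rw [smul_comm, ha, smul_zero]
      exact key x (by rw [hs]; exact x.2)
    obtain ⟨n, hn⟩ := Ideal.exists_pow_le_of_le_radical_of_fg hrad (Submodule.fg_span (Set.finite_range f))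
    exact E_of_pow R _ k (fun l hl => h3 l (by omega)) n L fun a ha x => Module.mem_annihilator.1 (hn ha) x
  | succ j ih =>
    intro hj k hk N _ _ hN
    let i₀ : Fin r := ⟨j, by omega⟩
    let S := Submonoid.powers (f i₀)
    let g : N →ₗ[A] LocalizedModule S N := LocalizedModule.mkLinearMap S N
    have hker : TorsFrom f j (LinearMap.ker g) := by
      intro i hi x
      rcases eq_or_lt_of_le hi with h | h
      · obtain rfl : i₀ = i := Fin.ext h
        obtain ⟨⟨_, n, rfl⟩, hn⟩ := (IsLocalizedModule.eq_zero_iff S g).1 (LinearMap.mem_ker.1 x.2)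
        exact ⟨n, Subtype.ext hn⟩
      · obtain ⟨n, hn⟩ := hN i h (x : N)
        exact ⟨n, Subtype.ext hn⟩
    have hloc : TorsFrom f (j + 1) (LocalizedModule S N) := by
      intro i hi x
      induction x using LocalizedModule.induction_on with
      | _ m s =>
        obtain ⟨n, hn⟩ := hN i hi m
        exact ⟨n, by rw [LocalizedModule.smul'_mk, hn, LocalizedModule.zero_mk]⟩
    have hcok : TorsFrom f j (LocalizedModule S N ⧸ LinearMap.range g) := by
      intro i hi x
      induction x using Submodule.Quotient.induction_on with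
      | _ x =>
        rcases eq_or_lt_of_le hi with h | h
        · obtain rfl : i₀ = i := Fin.ext h
          obtain ⟨⟨m, ⟨_, n, rfl⟩⟩, hn⟩ := IsLocalizedModule.surj S g x
          refine ⟨n, ?_⟩
          rw [← Submodule.Quotient.mk_smul, Submodule.Quotient.mk_eq_zero]
          exact ⟨m, hn.symm⟩
        · obtain ⟨n, hn⟩ := hloc i h x
          exact ⟨n, by rw [← Submodule.Quotient.mk_smul, hn, Submodule.Quotient.mk_zero]⟩
    haveI := h1 i₀
    have hNf : E R k (LocalizedModule S N) :=
      E_of_algebra R (Localization.Away (f i₀)) k (fun l _ => E_of_flat R l) _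
    have hrange : E R k (LinearMap.range g) :=
      E_left R (LinearMap.range g).subtype (LinearMap.range g).mkQ (LinearMap.range g).injective_subtype
        (LinearMap.exact_subtype_mkQ _) (Submodule.mkQ_surjective _) hNf (ih (by omega) (k + 1) (by omega) _ hcok)
    exact E_mid R (LinearMap.ker g).subtype g.rangeRestrict
      (LinearMap.exact_iff.2 (by rw [LinearMap.ker_rangeRestrict, Submodule.range_subtype]))
      g.surjective_rangeRestrict (ih (by omega) k (by omega) _ hker) hrange (LinearMap.ker g).injective_subtype

/-- Flatness from the localizations, the quotient, and vanishing of `Tor`. -/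
theorem flat_of_family {r : ℕ} (f : Fin r → A)
    [Module.Flat (A ⧸ Ideal.span (Set.range f)) ((A ⧸ Ideal.span (Set.range f)) ⊗[A] M)]
    (h1 : ∀ i, Module.Flat (Localization.Away (f i)) (Localization.Away (f i) ⊗[A] M))
    (h3 : ∀ l, l ≤ r → E R l (A ⧸ Ideal.span (Set.range f))) : Module.Flat A M :=
  flat_of_E R fun N _ _ => E_of_torsFrom R f h1 h3 r le_rfl 0 (by omega) N fun i hi => absurd i.2 (by omega)

end Groth.Agent.TorDevissage
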