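import Groth.Agent.TorDevissage.Cone
import Groth.Agent.CxLib.Homology
import Groth.Agent.CAlgOdd.TorSymm.Main

/-!
# Powers of an ideal kill `Tor`, uniformly in the degree
-/

set_option autoImplicit false
set_option backward.isDefEq.respectTransparency false
set_option backward.isDefEq.respectTransparency.types false

universe u

open CategoryTheory MonoidalCategory

noncomputable section

namespace Groth.Agent.TorDevissage.Cone

variable {A : Type u} [CommRing A]

/-- A chain complex as a `Cx`. -/
def ofChain (K : ChainComplex (ModuleCat.{u} A) ℕ) : Cx A where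
  X n := K.X n
  d n := (K.d (n + 1) n).hom
  dd n x := congrArg (fun φ => φ.hom x) (K.d_comp_d (n + 1 + 1) (n + 1) n)

/-- A chain map as a morphism of `Cx`. -/
def ofMap {K L : ChainComplex (ModuleCat.{u} A) ℕ} (φ : K ⟶ L) : Hom (ofChain K) (ofChain L) where
  f n := (φ.f n).hom
  comm n x := (congrArg (fun ψ => ψ.hom x) (φ.comm (n + 1) n)).symm

variable {X : ModuleCat.{u} A} (P : ProjectiveResolution X)

/-- The augmentation. -/
def aug : Hom (ofChain P.complex) (single (A := A) X) where
  f
    | 0 => (P.π.f 0).hom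
    | _ + 1 => 0
  comm n x := by
    cases n with
    | zero => exact congrArg (fun ψ => ψ.hom x) P.complex_d_comp_π_f_zero
    | succ n => rfl

theorem isCover_aug : IsCover (aug P) := by
  constructor
  · intro n
    cases n with
    | zero => exact (ModuleCat.epi_iff_surjective (P.π.f 0)).1 inferInstance
    | succ n => exact fun y => ⟨0, @Subsingleton.elim _ (inferInstanceAs (Subsingleton PUnit.{u + 1})) _ _⟩
  · intro p x hx hax
    cases p with
    | zero =>
      obtain ⟨y, hy⟩ := (((ShortComplex.ShortExact.moduleCat_exact_iff_function_exact _).1 P.exact₀) x).1 hax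
      exact ⟨y, rfl, hy⟩
    | succ q =>
      obtain ⟨y, hy⟩ := (((ShortComplex.ShortExact.moduleCat_exact_iff_function_exact _).1 (P.exact_succ q)) x).1 hx
      exact ⟨y, rfl, hy⟩

theorem exactFrom_ofChain : ExactFrom (ofChain P.complex) 1 := by
  intro p hp x hx
  obtain ⟨q, rfl⟩ := Nat.exists_eq_add_of_le hp
  have hq : 1 + q = q + 1 := Nat.add_comm _ _
  revert x
  rw [hq]
  intro x hx
  obtain ⟨y, hy⟩ := (((ShortComplex.ShortExact.moduleCat_exact_iff_function_exact _).1 (P.exact_succ q)) x).1 hx
  exact ⟨y, hy⟩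

/-- Zero on homology in one degree, for chain complexes. -/
theorem homologyMap_eq_zero {K L : ChainComplex (ModuleCat.{u} A) ℕ} (φ : K ⟶ L) (p : ℕ)
    (h : ∀ x : K.X p, (∀ j, (ComplexShape.down ℕ).next p = j → (K.d p j).hom x = 0) →
      ∃ y : L.X (p + 1), (L.d (p + 1) p).hom y = (φ.f p).hom x) :
    HomologicalComplex.homologyMap φ p = 0 := by
  apply ModuleCat.hom_ext
  ext c
  obtain ⟨z, rfl⟩ := CxLib.homologyπ_surjective K p c
  rw [CxLib.homologyMap_homologyπ]
  show (L.homologyπ p).hom _ = 0
  rw [CxLib.homologyπ_eq_zero_iff L p (p + 1) (by simp), CxLib.iCycles_cyclesMap]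
  exact h _ fun j _ => CxLib.iCycles_d_apply K p j z

variable [IsNoetherianRing A]

/-- The main statement: for a finite module and an ideal, the inclusions of high powers kill
`Tor(N, -)` in every degree, for every `N` killed by the ideal. -/
theorem exists_pow_map_tor_eq_zero (I : Ideal A) (M : Type u) [AddCommGroup M] [Module A M] [Module.Finite A M] :
    ∃ n : ℕ, 0 < n ∧ ∀ (N : Type u) [AddCommGroup N] [Module A N], (∀ a ∈ I, ∀ y : N, a • y = 0) → ∀ p : ℕ,
      ((CategoryTheory.Tor (ModuleCat.{u} A) p).obj (ModuleCat.of A N)).map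
        (ModuleCat.ofHom (I ^ n • ⊤ : Submodule A M).subtype) = 0 := by
  classical
  obtain ⟨S, hS⟩ := IsNoetherian.noetherian (R := A) (M := A) I
  let l : List A := S.toList
  have hl : Ideal.span {c | c ∈ l} = I := by
    rw [← hS]
    exact congrArg Ideal.span (Set.ext fun c => Finset.mem_toList)
  let L : ℕ → Submodule A M := fun n => I ^ n • ⊤
  let P : ∀ n, ProjectiveResolution (ModuleCat.of A (L n)) := fun n => ProjectiveResolution.of _
  haveI : ∀ n p, Module.Projective A ((ofChain (P n).complex).X p) := fun n p =>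
    (IsProjective.iff_projective _).2 ((P n).projective p)
  -- the Artin–Rees step
  have hstep : ∀ j, ∃ e, ∀ (n : ℕ), j + e ≤ n → ∀ (φ : (P n).complex ⟶ (P j).complex) (hjn : L n ≤ L j),
      φ.f 0 ≫ (P j).π.f 0 = (P n).π.f 0 ≫ ModuleCat.ofHom (Submodule.inclusion hjn) →
      ∀ p, ZeroAt ((ofMap φ).coneL l) p := by
    intro j
    haveI : Module.Finite A (L j) := inferInstance
    obtain ⟨e, he⟩ := exists_zeroAt ((single (A := A) (L j)).coneL l) (I := I)
      (finite_coneL (finite_single _) l) (fun b hb => isNullMul_coneL _ l b (hl.symm ▸ hb))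
      (exactFrom_coneL (exactFrom_single _) l)
    refine ⟨e, fun n hn φ hjn hφ p => ?_⟩
    refine IsCover.zeroAt (α := (singleMap (Submodule.inclusion hjn)).coneL l) (π := (aug (P n)).coneL l)
      ((isCover_aug (P j)).coneL l) ?_ ?_
    · intro q x
      rw [← coneL_comp_apply, ← coneL_comp_apply]
      refine coneL_congr_apply _ _ ?_ l q x
      intro q x
      cases q with
      | zero => exact congrArg (fun ψ => ψ.hom x) hφ
      | succ q => rfl
    · refine he _ _ ?_ p
      refine (rangeLE_singleMap fun x => ?_).coneL l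
      have hx : (x : M) ∈ Submodule.map (L j).subtype (I ^ e • ⊤) := by
        rw [Submodule.map_smul'', Submodule.map_top, Submodule.range_subtype]
        show (x : M) ∈ I ^ e • (I ^ j • ⊤ : Submodule A M)
        rw [← Submodule.mul_smul, ← pow_add]
        exact Submodule.smul_mono_left (Ideal.pow_le_pow_right (by omega)) x.2
      obtain ⟨y, hy, hxy⟩ := hx
      rwa [show Submodule.inclusion hjn x = y from Subtype.ext hxy.symm]
  -- homotopies up to `r + 1` degrees
  have hup : ∀ m j, ∃ n, ∃ hjn : j ≤ n, ∃ φ : (P n).complex ⟶ (P j).complex,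
      φ.f 0 ≫ (P j).π.f 0 = (P n).π.f 0 ≫
        ModuleCat.ofHom (Submodule.inclusion (show L n ≤ L j from Submodule.smul_mono_left (Ideal.pow_le_pow_right hjn))) ∧
      UpTo ((ofMap φ).coneL l) m := by
    intro m
    induction m with
    | zero =>
      intro j
      exact ⟨j, le_rfl, ProjectiveResolution.lift _ (P j) (P j),
        ProjectiveResolution.lift_commutes_zero _ _ _, upTo_zero _⟩
    | succ m ih =>
      intro j
      obtain ⟨e, he⟩ := hstep j
      obtain ⟨n, hn, φ, hφ, hup⟩ := ih (j + e)
      have h1 : L (j + e) ≤ L j := Submodule.smul_mono_left (Ideal.pow_le_pow_right (Nat.le_add_right j e))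
      let ψ : (P (j + e)).complex ⟶ (P j).complex :=
        ProjectiveResolution.lift (ModuleCat.ofHom (Submodule.inclusion h1)) _ _
      have hψ := ProjectiveResolution.lift_commutes_zero (ModuleCat.ofHom (Submodule.inclusion h1)) (P (j + e)) (P j)
      refine ⟨n, (Nat.le_add_right j e).trans hn, φ ≫ ψ, ?_, ?_⟩
      · rw [HomologicalComplex.comp_f, Category.assoc, hψ, reassoc_of% hφ]
        rfl
      · haveI := projective_coneL (fun p => (inferInstance : Module.Projective A ((ofChain (P n).complex).X p))) l m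
        refine (hup.step ((ofMap ψ).coneL l) (he (j + e) le_rfl ψ h1 hψ m)).congr ?_
        intro q x
        exact ((coneL_comp_apply (ofMap φ) (ofMap ψ) l q x).symm).trans (coneL_congr_apply _ _ (fun q x => rfl) l q x)
  let r := 1 + l.length
  obtain ⟨n, hn, φ, hφ, hup0⟩ := hup r 1
  refine ⟨n, hn, fun N _ _ hN p => ?_⟩
  let Q : ProjectiveResolution (ModuleCat.of A M) := ProjectiveResolution.of _
  let ψ : (P 1).complex ⟶ Q.complex := ProjectiveResolution.lift (ModuleCat.ofHom (L 1).subtype) _ _
  have hψ := ProjectiveResolution.lift_commutes_zero (ModuleCat.ofHom (L 1).subtype) (P 1) Q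
  have hall : ∀ m, UpTo ((ofMap (φ ≫ ψ)).coneL l) (r + m) := by
    intro m
    induction m with
    | zero =>
      refine (hup0.comp ((ofMap ψ).coneL l)).congr ?_
      intro q x
      exact ((coneL_comp_apply (ofMap φ) (ofMap ψ) l q x).symm).trans (coneL_congr_apply _ _ (fun q x => rfl) l q x)
    | succ m ih =>
      haveI := projective_coneL (fun p => (inferInstance : Module.Projective A ((ofChain (P n).complex).X p))) l (r + m)
      refine (ih.step (Hom.id _) ?_).congr fun _ _ => rfl
      intro x hx
      exact exactFrom_coneL (exactFrom_ofChain Q) l (r + m) (Nat.le_add_right _ _) x hx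
  have hz : ZeroAt ((ofMap (φ ≫ ψ)).ten N) p := by
    refine zeroAt_ten_of_coneL l (fun a ha => hN a ?_) ?_
    · rw [← hl]; exact Ideal.subset_span ha
    · apply UpTo.zeroAt_ten
      obtain ⟨s, hs⟩ := hall (p + 1)
      exact ⟨s, fun q hq => hs q (by omega)⟩
  let G : ModuleCat.{u} A ⥤ ModuleCat.{u} A := (tensoringLeft (ModuleCat.{u} A)).obj (ModuleCat.of A N)
  have hh : HomologicalComplex.homologyMap ((G.mapHomologicalComplex (ComplexShape.down ℕ)).map (φ ≫ ψ)) p = 0 := by
    refine homologyMap_eq_zero _ p fun x hx => hz x ?_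
    show (((ofChain (P n).complex).ten N).pd p) x = 0
    cases p with
    | zero => rfl
    | succ q => exact hx q (by simp)
  have hnat := ProjectiveResolution.isoLeftDerivedObj_hom_naturality
    (ModuleCat.ofHom (L n).subtype) (P n) Q (φ ≫ ψ) (by
      rw [HomologicalComplex.comp_f, Category.assoc, hψ, reassoc_of% hφ]
      rfl) G p
  rw [← cancel_mono (Q.isoLeftDerivedObj G p).hom, Limits.zero_comp]
  refine hnat.trans ?_
  show _ ≫ HomologicalComplex.homologyMap _ p = 0
  rw [hh, Limits.comp_zero]

/-- The same in the first variable. -/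
theorem exists_pow_map_tor_eq_zero' (I : Ideal A) (M N : Type u) [AddCommGroup M] [Module A M] [Module.Finite A M]
    [AddCommGroup N] [Module A N] (hN : ∀ a ∈ I, ∀ y : N, a • y = 0) :
    ∃ n : ℕ, 0 < n ∧ ∀ p : ℕ,
      ((CategoryTheory.Tor (ModuleCat.{u} A) p).map (ModuleCat.ofHom (I ^ n • ⊤ : Submodule A M).subtype)).app
        (ModuleCat.of A N) = 0 := by
  obtain ⟨n, hn, h⟩ := exists_pow_map_tor_eq_zero I M
  refine ⟨n, hn, fun p => ?_⟩
  obtain ⟨e⟩ := CAlgOdd.TorSymm.nonempty_flip (R := A) p
  have h1 := congrArg (fun t => t.app (ModuleCat.of A N)) (e.hom.naturality (ModuleCat.ofHom (I ^ n • ⊤ : Submodule A M).subtype))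
  simp only [NatTrans.comp_app, Functor.flip_map_app] at h1
  rw [h N hN p, Limits.comp_zero] at h1
  have hinv : ∀ {U V W : ModuleCat.{u} A} (x : U ⟶ V) (i : V ≅ W), x ≫ i.hom = 0 → x = 0 := fun x i hx => by
    rw [← Category.comp_id x, ← i.hom_inv_id, ← Category.assoc, hx, Limits.zero_comp]
  exact hinv _ ((e.app (ModuleCat.of A M)).app (ModuleCat.of A N)) h1

end Groth.Agent.TorDevissage.Cone
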