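import Groth.Agent.H9Misc.TorBalance
import Mathlib

/-!
# Dévissage of the vanishing of `Tor` along a flat resolution

For a resolution `P` of `M` by flat modules, `E P k N` says that `P ⊗ N` is exact in degree `k + 1`,
i.e. `Tor_{k+1}(M, N) = 0`.
-/

set_option autoImplicit false

universe u

open TensorProduct

namespace Groth.Agent.TorDevissage

variable (A : Type u) [CommRing A] (M : Type u) [AddCommGroup M] [Module A M]

/-- A flat resolution of `M`. -/
structure Res where
  P : ℕ → Type u
  [acg : ∀ n, AddCommGroup (P n)]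
  [mod : ∀ n, Module A (P n)]
  [flat : ∀ n, Module.Flat A (P n)]
  d : ∀ n, P (n + 1) →ₗ[A] P n
  ε : P 0 →ₗ[A] M
  ε_surjective : Function.Surjective ε
  exact₀ : Function.Exact (d 0) ε
  exact : ∀ n, Function.Exact (d (n + 1)) (d n)

attribute [instance] Res.acg Res.mod Res.flat

variable {A M} (R : Res A M)

/-- Vanishing of `Tor_{k+1}(M, N)`. -/
def E (k : ℕ) (N : Type u) [AddCommGroup N] [Module A N] : Prop :=
  Function.Exact ((R.d (k + 1)).rTensor N) ((R.d k).rTensor N)

theorem d_d (k : ℕ) (N : Type u) [AddCommGroup N] [Module A N] (v : R.P (k + 1 + 1) ⊗[A] N) :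
    (R.d k).rTensor N ((R.d (k + 1)).rTensor N v) = 0 := by
  rw [← LinearMap.comp_apply, ← LinearMap.rTensor_comp, (R.exact k).linearMap_comp_eq_zero,
    LinearMap.rTensor_zero, LinearMap.zero_apply]

/-- To check `E` it suffices to find boundaries. -/
theorem E_of_forall {k : ℕ} {N : Type u} [AddCommGroup N] [Module A N]
    (h : ∀ x, (R.d k).rTensor N x = 0 → ∃ v, (R.d (k + 1)).rTensor N v = x) : E R k N := fun x =>
  ⟨h x, by rintro ⟨v, rfl⟩; exact d_d R k N v⟩

theorem comm {N N' : Type u} [AddCommGroup N] [Module A N] [AddCommGroup N'] [Module A N'] (g : N →ₗ[A] N')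
    (k : ℕ) (x : R.P (k + 1) ⊗[A] N) :
    g.lTensor (R.P k) ((R.d k).rTensor N x) = (R.d k).rTensor N' (g.lTensor (R.P (k + 1)) x) := by
  rw [← LinearMap.comp_apply, LinearMap.lTensor_comp_rTensor, ← LinearMap.comp_apply (f := (R.d k).rTensor N'),
    LinearMap.rTensor_comp_lTensor]

variable {K N Q : Type u} [AddCommGroup K] [Module A K] [AddCommGroup N] [Module A N] [AddCommGroup Q] [Module A Q]
  (i : K →ₗ[A] N) (q : N →ₗ[A] Q) (hi : Function.Injective i) (hex : Function.Exact i q)
  (hq : Function.Surjective q)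

include hex hq in
/-- `E` for the two outer modules gives it for the middle one. -/
theorem E_mid {k : ℕ} (hK : E R k K) (hQ : E R k Q) (hi : Function.Injective i) : E R k N := by
  refine E_of_forall R fun x hx => ?_
  obtain ⟨v, hv⟩ := (hQ (q.lTensor _ x)).1 (by rw [← comm, hx, map_zero])
  obtain ⟨v', rfl⟩ := LinearMap.lTensor_surjective _ hq v
  obtain ⟨y, hy⟩ := (lTensor_exact (R.P (k + 1)) hex hq (x - (R.d (k + 1)).rTensor N v')).1
    (by rw [map_sub, comm, hv, sub_self])
  have hyc : (R.d k).rTensor K y = 0 := by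
    apply Module.Flat.lTensor_preserves_injective_linearMap (M := R.P k) i hi
    rw [comm, hy, map_sub, hx, d_d, sub_zero, map_zero]
  obtain ⟨w, hw⟩ := (hK y).1 hyc
  refine ⟨v' + i.lTensor _ w, ?_⟩
  rw [map_add, ← comm, hw, hy, add_sub_cancel]

include hi hex hq in
/-- `E` for the middle and, one degree higher, for the right module gives it for the left one. -/
theorem E_left {k : ℕ} (hN : E R k N) (hQ : E R (k + 1) Q) : E R k K := by
  refine E_of_forall R fun x hx => ?_
  obtain ⟨y, hy⟩ := (hN (i.lTensor _ x)).1 (by rw [← comm, hx, map_zero])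
  obtain ⟨v, hv⟩ := (hQ (q.lTensor _ y)).1 (by
    rw [← comm, hy, ← LinearMap.comp_apply, ← LinearMap.lTensor_comp, hex.linearMap_comp_eq_zero,
      LinearMap.lTensor_zero, LinearMap.zero_apply])
  obtain ⟨v', rfl⟩ := LinearMap.lTensor_surjective _ hq v
  obtain ⟨w, hw⟩ := (lTensor_exact (R.P (k + 1 + 1)) hex hq (y - (R.d (k + 1 + 1)).rTensor N v')).1
    (by rw [map_sub, comm, hv, sub_self])
  refine ⟨w, Module.Flat.lTensor_preserves_injective_linearMap (M := R.P (k + 1)) i hi ?_⟩
  rw [comm, hw, map_sub, d_d, sub_zero, hy]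

include hex hq in
/-- The common step for the right module of a short exact sequence. -/
theorem E_right {k : ℕ} (hN : E R k N) (hK : ∀ z : R.P k ⊗[A] K,
      (∃ y, i.lTensor (R.P k) z = (R.d k).rTensor N y) → ∃ w, (R.d k).rTensor K w = z) :
    E R k Q := by
  refine E_of_forall R fun x hx => ?_
  obtain ⟨y, rfl⟩ := LinearMap.lTensor_surjective _ hq x
  obtain ⟨z, hz⟩ := (lTensor_exact (R.P k) hex hq ((R.d k).rTensor N y)).1 (by rw [comm, hx])
  obtain ⟨w, hw⟩ := hK z ⟨y, hz⟩
  obtain ⟨v, hv⟩ := (hN (y - i.lTensor _ w)).1 (by rw [map_sub, ← comm, hw, hz, sub_self])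
  refine ⟨q.lTensor _ v, ?_⟩
  rw [← comm, hv, map_sub, ← LinearMap.comp_apply (f := q.lTensor _) (g := i.lTensor _), ← LinearMap.lTensor_comp,
    hex.linearMap_comp_eq_zero, LinearMap.lTensor_zero, LinearMap.zero_apply, sub_zero]

/-- The base change of a module along an algebra, read on a module over that algebra. -/
theorem lTensor_injective_of_flat_baseChange (B : Type u) [CommRing B] [Algebra A B] [Module.Flat B (B ⊗[A] M)]
    {N N' : Type u} [AddCommGroup N] [Module A N] [Module B N] [IsScalarTower A B N]
    [AddCommGroup N'] [Module A N'] [Module B N'] [IsScalarTower A B N'] (g : N →ₗ[B] N')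
    (hg : Function.Injective g) : Function.Injective ((g.restrictScalars A).lTensor M) := by
  rw [LinearMap.lTensor_inj_iff_rTensor_inj]
  let e : N ⊗[B] (B ⊗[A] M) ≃ₗ[A] N ⊗[A] M :=
    (AlgebraTensorModule.cancelBaseChange A B B N M).restrictScalars A
  let e' : N' ⊗[B] (B ⊗[A] M) ≃ₗ[A] N' ⊗[A] M :=
    (AlgebraTensorModule.cancelBaseChange A B B N' M).restrictScalars A
  have hc : ((g.restrictScalars A).rTensor M) ∘ e = e' ∘ g.rTensor (B ⊗[A] M) := by
    funext x
    induction x using TensorProduct.induction_on with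
    | zero => simp
    | add a b ha hb =>
      simp only [Function.comp_apply] at ha hb ⊢
      simp only [map_add, ha, hb]
    | tmul n y =>
      induction y using TensorProduct.induction_on with
      | zero => simp
      | add a b ha hb =>
        simp only [Function.comp_apply] at ha hb ⊢
        simp only [tmul_add, map_add, ha, hb]
      | tmul c m => simp [e, e']
  have := (e'.injective.comp (Module.Flat.rTensor_preserves_injective_linearMap (M := B ⊗[A] M) g hg))
  rw [← hc] at this
  exact (Function.Injective.of_comp_iff' _ e.bijective).1 this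

/-- Vanishing on `B` gives vanishing on free `B`-modules. -/
theorem E_finsupp {k : ℕ} (h : E R k N) (ι : Type u) : E R k (ι →₀ N) := by
  classical
  refine E_of_forall R fun x hx => ?_
  let e := fun n => (TensorProduct.finsuppRight A A (R.P n) N ι)
  have hc : ∀ (n : ℕ) (x : R.P (n + 1) ⊗[A] (ι →₀ N)) (j : ι),
      e n ((R.d n).rTensor (ι →₀ N) x) j = (R.d n).rTensor N (e (n + 1) x j) := by
    intro n x j
    induction x using TensorProduct.induction_on with
    | zero => simp
    | add a b ha hb => simp only [map_add, Finsupp.add_apply, ha, hb]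
    | tmul p f => simp [e]
  have hj : ∀ j, ∃ v, (R.d (k + 1)).rTensor N v = e (k + 1) x j := fun j =>
    (h _).1 (by rw [← hc, hx, map_zero, Finsupp.zero_apply])
  choose v hv using hj
  refine ⟨(e (k + 1 + 1)).symm (Finsupp.onFinset (e (k + 1) x).support
    (fun j => if j ∈ (e (k + 1) x).support then v j else 0) fun j hj => ?_), ?_⟩
  · by_contra hne; exact hj (if_neg hne)
  · apply (e (k + 1)).injective
    ext j
    rw [hc, LinearEquiv.apply_symm_apply, Finsupp.onFinset_apply]
    split_ifs with hjs
    · exact hv j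
    · rw [map_zero, Finsupp.notMem_support_iff.1 hjs]

/-- The step in a short exact sequence of `B`-modules, degree zero. -/
theorem E_zero_of_algebra (B : Type u) [CommRing B] [Algebra A B] [Module.Flat B (B ⊗[A] M)]
    {K F N : Type u} [AddCommGroup K] [Module A K] [Module B K] [IsScalarTower A B K]
    [AddCommGroup F] [Module A F] [Module B F] [IsScalarTower A B F] [AddCommGroup N] [Module A N]
    (i : K →ₗ[B] F) (q : F →ₗ[A] N) (hi : Function.Injective i) (hex : Function.Exact (i.restrictScalars A) q)
    (hq : Function.Surjective q) (hF : E R 0 F) : E R 0 N := by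
  refine E_right R (i.restrictScalars A) q hex hq hF ?_
  rintro z ⟨y, hy⟩
  refine (rTensor_exact K R.exact₀ R.ε_surjective z).1 ?_
  apply lTensor_injective_of_flat_baseChange (M := M) B i hi
  rw [← LinearMap.comp_apply, LinearMap.lTensor_comp_rTensor, ← LinearMap.rTensor_comp_lTensor,
    LinearMap.comp_apply, hy, ← LinearMap.comp_apply, ← LinearMap.rTensor_comp,
    R.exact₀.linearMap_comp_eq_zero, LinearMap.rTensor_zero, LinearMap.zero_apply, map_zero]

/-- The step in a short exact sequence, positive degree. -/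
theorem E_succ_of_left {k : ℕ} {K F N : Type u} [AddCommGroup K] [Module A K] [AddCommGroup F] [Module A F]
    [AddCommGroup N] [Module A N] (i : K →ₗ[A] F) (q : F →ₗ[A] N) (hi : Function.Injective i)
    (hex : Function.Exact i q) (hq : Function.Surjective q) (hF : E R (k + 1) F) (hK : E R k K) :
    E R (k + 1) N := by
  refine E_right R i q hex hq hF ?_
  rintro z ⟨y, hy⟩
  refine (hK z).1 ?_
  apply Module.Flat.lTensor_preserves_injective_linearMap (M := R.P k) i hi
  rw [comm, hy, d_d, map_zero]

/-- Vanishing on an algebra `B` with `B ⊗ M` flat gives vanishing on all `B`-modules. -/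
theorem E_of_algebra (B : Type u) [CommRing B] [Algebra A B] [Module.Flat B (B ⊗[A] M)] :
    ∀ (k : ℕ), (∀ l, l ≤ k → E R l B) → ∀ (N : Type u) [AddCommGroup N] [Module A N] [Module B N]
      [IsScalarTower A B N], E R k N := by
  intro k
  induction k with
  | zero =>
    intro h N _ _ _ _
    let q : (N →₀ B) →ₗ[B] N := Finsupp.linearCombination B id
    exact E_zero_of_algebra R B (K := ↥(LinearMap.ker q)) (LinearMap.ker q).subtype (q.restrictScalars A)
      (LinearMap.ker q).injective_subtype (LinearMap.exact_subtype_ker_map q)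
      (Finsupp.linearCombination_id_surjective B N) (E_finsupp R (h 0 le_rfl) N)
  | succ k ih =>
    intro h N _ _ _ _
    let q : (N →₀ B) →ₗ[B] N := Finsupp.linearCombination B id
    exact E_succ_of_left R (K := ↥(LinearMap.ker q)) ((LinearMap.ker q).subtype.restrictScalars A)
      (q.restrictScalars A) (LinearMap.ker q).injective_subtype (LinearMap.exact_subtype_ker_map q)
      (Finsupp.linearCombination_id_surjective B N) (E_finsupp R (h _ le_rfl) N)
      (ih (fun l hl => h l (hl.trans k.le_succ)) (LinearMap.ker q))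

/-- Vanishing passes to directed unions of finitely generated submodules. -/
theorem E_of_fg {k : ℕ} (h : ∀ L : Submodule A N, L.FG → E R k L) : E R k N := by
  refine E_of_forall R fun x hx => ?_
  obtain ⟨L, hL, hmem⟩ := TensorProduct.exists_finite_submodule_right_of_setFinite _ (Set.finite_singleton x)
  obtain ⟨x', rfl⟩ := hmem (Set.mem_singleton x)
  haveI := hL
  obtain ⟨v, rfl⟩ := (h L (Module.Finite.iff_fg.1 hL) x').1 (by
    apply Module.Flat.lTensor_preserves_injective_linearMap (M := R.P k) L.subtype L.injective_subtype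
    rw [comm, hx, map_zero])
  exact ⟨L.subtype.lTensor _ v, (comm R _ _ _).symm⟩

/-- Vanishing on an algebra which is flat. -/
theorem E_of_flat (k : ℕ) [Module.Flat A N] : E R k N :=
  Module.Flat.rTensor_exact N (R.exact k)

/-- `Tor₁` vanishing on all modules gives flatness. -/
theorem flat_of_E (h : ∀ (N : Type u) [AddCommGroup N] [Module A N], E R 0 N) : Module.Flat A M := by
  rw [Module.Flat.iff_lTensor_preserves_injective_linearMap]
  intro K N _ _ _ _ g hg
  rw [injective_iff_map_eq_zero]
  intro t ht
  obtain ⟨z, rfl⟩ := LinearMap.rTensor_surjective K R.ε_surjective t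
  obtain ⟨y, hy⟩ := (rTensor_exact N R.exact₀ R.ε_surjective (g.lTensor _ z)).1 (by
    rw [← LinearMap.comp_apply, LinearMap.rTensor_comp_lTensor, ← LinearMap.lTensor_comp_rTensor,
      LinearMap.comp_apply, ht])
  let q := (LinearMap.range g).mkQ
  have hex : Function.Exact g q := LinearMap.exact_iff.2 (Submodule.ker_mkQ _)
  obtain ⟨v, hv⟩ := (h _ (q.lTensor _ y)).1 (by
    rw [← comm, hy, ← LinearMap.comp_apply, ← LinearMap.lTensor_comp, hex.linearMap_comp_eq_zero,
      LinearMap.lTensor_zero, LinearMap.zero_apply])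
  obtain ⟨v', rfl⟩ := LinearMap.lTensor_surjective _ (Submodule.mkQ_surjective _) v
  obtain ⟨w, hw⟩ := (lTensor_exact (R.P 1) hex (Submodule.mkQ_surjective _) (y - (R.d 1).rTensor N v')).1
    (by rw [map_sub, comm, hv, sub_self])
  have hz : z = (R.d 0).rTensor K w := by
    apply Module.Flat.lTensor_preserves_injective_linearMap (M := R.P 0) g hg
    rw [comm, hw, map_sub, d_d, sub_zero, hy]
  rw [hz, ← LinearMap.comp_apply, ← LinearMap.rTensor_comp, R.exact₀.linearMap_comp_eq_zero,
    LinearMap.rTensor_zero, LinearMap.zero_apply]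

end Groth.Agent.TorDevissage
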