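import Mathlib

/-!
# Iterated cones of multiplications

Complexes indexed by natural numbers, the cone of a multiplication, and homotopies up to a degree.
-/

set_option autoImplicit false
set_option backward.isDefEq.respectTransparency false
set_option backward.isDefEq.respectTransparency.types false

universe u

open TensorProduct

noncomputable section

namespace Groth.Agent.TorDevissage.Cone

variable (A : Type u) [CommRing A]

/-- A complex in nonnegative degrees. -/
structure Cx where
  X : ℕ → Type u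
  [ag : ∀ n, AddCommGroup (X n)]
  [md : ∀ n, Module A (X n)]
  d : ∀ n, X (n + 1) →ₗ[A] X n
  dd : ∀ n x, d n (d (n + 1) x) = 0

attribute [instance] Cx.ag Cx.md

variable {A}

/-- The shifted family. -/
@[reducible] def Cx.shift (C : Cx A) : ℕ → Type u
  | 0 => PUnit
  | n + 1 => C.X n

instance (C : Cx A) : ∀ n, AddCommGroup (C.shift n)
  | 0 => inferInstanceAs (AddCommGroup PUnit.{u + 1})
  | n + 1 => C.ag n

instance (C : Cx A) : ∀ n, Module A (C.shift n)
  | 0 => inferInstanceAs (Module A PUnit.{u + 1})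
  | n + 1 => C.md n

/-- The differential into the shifted family. -/
def Cx.pd (C : Cx A) : ∀ n, C.X n →ₗ[A] C.shift n
  | 0 => 0
  | n + 1 => C.d n

theorem Cx.pd_d (C : Cx A) : ∀ n (x : C.X (n + 1)), C.pd n (C.d n x) = 0
  | 0, _ => rfl
  | n + 1, x => C.dd n x

/-- The cone of multiplication by `a`. -/
def Cx.cone (C : Cx A) (a : A) : Cx A where
  X n := C.X n × C.shift n
  d n := LinearMap.prod ((C.d n).coprod (a • LinearMap.id (M := C.X n)))
    (-(C.pd n ∘ₗ LinearMap.snd A (C.X (n + 1)) (C.X n)))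
  dd n := fun ⟨x, y⟩ => by
    refine Prod.ext ?_ ?_
    · show C.d n (C.d (n + 1) x + a • y) + a • (-(C.d n y)) = 0
      rw [map_add, C.dd, map_smul, zero_add, smul_neg, add_neg_cancel]
    · show -(C.pd n (-(C.d n y))) = 0
      rw [map_neg, C.pd_d, neg_zero, neg_zero]

theorem cone_d_apply (C : Cx A) (a : A) (n : ℕ) (x : C.X (n + 1)) (y : C.X n) :
    (C.cone a).d n (x, y) = (C.d n x + a • y, -(C.pd n y)) := rfl

/-- Iterated cones. -/
def Cx.coneL (C : Cx A) : List A → Cx A
  | [] => C
  | a :: l => (C.coneL l).cone a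

/-- A morphism of complexes. -/
structure Hom (C D : Cx A) where
  f : ∀ n, C.X n →ₗ[A] D.X n
  comm : ∀ n x, f n (C.d n x) = D.d n (f (n + 1) x)

variable {C D E : Cx A}

/-- The shifted morphism. -/
def Hom.sh (g : Hom C D) : ∀ n, C.shift n →ₗ[A] D.shift n
  | 0 => 0
  | n + 1 => g.f n

theorem Hom.comm_pd (g : Hom C D) : ∀ n (x : C.X n), g.sh n (C.pd n x) = D.pd n (g.f n x)
  | 0, _ => rfl
  | n + 1, x => g.comm n x

/-- Composition. -/
def Hom.comp (g : Hom C D) (h : Hom D E) : Hom C E where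
  f n := h.f n ∘ₗ g.f n
  comm n x := by simp [g.comm, h.comm]

/-- The identity. -/
protected def Hom.id (C : Cx A) : Hom C C where
  f _ := LinearMap.id
  comm _ _ := rfl

/-- The map of cones. -/
def Hom.cone (g : Hom C D) (a : A) : Hom (C.cone a) (D.cone a) where
  f n := (g.f n).prodMap (g.sh n)
  comm n := fun ⟨x, y⟩ => by
    refine Prod.ext ?_ ?_
    · show g.f n (C.d n x + a • y) = D.d n (g.f (n + 1) x) + a • g.f n y
      rw [map_add, map_smul, g.comm]
    · show g.sh n (-(C.pd n y)) = -(D.pd n (g.f n y))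
      rw [map_neg, g.comm_pd]

theorem Hom.cone_apply (g : Hom C D) (a : A) (n : ℕ) (x : C.X n) (y : C.shift n) :
    (g.cone a).f n (x, y) = (g.f n x, g.sh n y) := rfl

/-- The map of iterated cones. -/
def Hom.coneL (g : Hom C D) : ∀ l : List A, Hom (C.coneL l) (D.coneL l)
  | [] => g
  | a :: l => (g.coneL l).cone a

theorem coneL_comp_apply (g : Hom C D) (h : Hom D E) : ∀ (l : List A) (n : ℕ) (x : (C.coneL l).X n),
    ((g.comp h).coneL l).f n x = (h.coneL l).f n ((g.coneL l).f n x)
  | [], _, _ => rfl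
  | a :: l, n, (x, y) => Prod.ext (coneL_comp_apply g h l n x) (by
      cases n with
      | zero => rfl
      | succ n => exact coneL_comp_apply g h l n y)

theorem coneL_id_apply : ∀ (l : List A) (n : ℕ) (x : (C.coneL l).X n), ((Hom.id C).coneL l).f n x = x
  | [], _, _ => rfl
  | a :: l, n, (x, y) => Prod.ext (coneL_id_apply l n x) (by
      cases n with
      | zero => rfl
      | succ n => exact coneL_id_apply l n y)

theorem coneL_congr_apply (g g' : Hom C D) (hgg : ∀ n x, g.f n x = g'.f n x) : ∀ (l : List A) (n : ℕ)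
    (x : (C.coneL l).X n), (g.coneL l).f n x = (g'.coneL l).f n x
  | [], n, x => hgg n x
  | a :: l, n, (x, y) => Prod.ext (coneL_congr_apply g g' hgg l n x) (by
      cases n with
      | zero => rfl
      | succ n => exact coneL_congr_apply g g' hgg l n y)

/-- Cycles. -/
def IsCyc (C : Cx A) (p : ℕ) (x : C.X p) : Prop := C.pd p x = 0

/-- Boundaries. -/
def IsBd (C : Cx A) (p : ℕ) (x : C.X p) : Prop := ∃ y, C.d p y = x

/-- Zero on homology in degree `p`. -/
def ZeroAt (g : Hom C D) (p : ℕ) : Prop := ∀ x, IsCyc C p x → IsBd D p (g.f p x)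

/-- Exactness in degrees `≥ j`. -/
def ExactFrom (C : Cx A) (j : ℕ) : Prop := ∀ p, j ≤ p → ∀ x, IsCyc C p x → IsBd C p x

theorem exactFrom_cone {a : A} {j : ℕ} (h : ExactFrom C j) : ExactFrom (C.cone a) (j + 1) := by
  rintro (_ | q) hq ⟨x, y⟩ hx
  · omega
  · have h1 : C.d q x + a • y = 0 := congrArg Prod.fst hx
    have h2 : C.pd q y = 0 := neg_eq_zero.1 (congrArg Prod.snd hx)
    obtain ⟨w, hw⟩ := h q (by omega) y h2
    obtain ⟨v, hv⟩ := h (q + 1) (by omega) (x + a • w) (by
      show C.d q (x + a • w) = 0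
      rw [map_add, map_smul, hw, h1])
    refine ⟨(v, -w), Prod.ext ?_ ?_⟩
    · show C.d (q + 1) v + a • (-w) = x
      rw [hv, smul_neg, add_neg_cancel_right]
    · show -(C.d q (-w)) = y
      rw [map_neg, neg_neg, hw]

theorem exactFrom_coneL {j : ℕ} (h : ExactFrom C j) : ∀ l : List A, ExactFrom (C.coneL l) (j + l.length)
  | [] => h
  | _ :: l => exactFrom_cone (exactFrom_coneL h l)

/-- A componentwise surjection with exact kernel. -/
structure IsCover (g : Hom C D) : Prop where
  surj : ∀ n, Function.Surjective (g.f n)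
  kerExact : ∀ p x, IsCyc C p x → g.f p x = 0 → ∃ y, g.f (p + 1) y = 0 ∧ C.d p y = x

theorem IsCover.cone {g : Hom C D} (h : IsCover g) (a : A) : IsCover (g.cone a) := by
  constructor
  · rintro n ⟨x, y⟩
    obtain ⟨x', rfl⟩ := h.surj n x
    obtain ⟨y', rfl⟩ : ∃ y', g.sh n y' = y := by
      cases n with
      | zero => exact ⟨PUnit.unit, rfl⟩
      | succ n => exact h.surj n y
    exact ⟨(x', y'), rfl⟩
  · rintro (_ | q) ⟨x, y⟩ hx hgx
    · obtain ⟨v, hv0, hv⟩ := h.kerExact 0 x rfl (congrArg Prod.fst hgx)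
      refine ⟨(v, 0), Prod.ext hv0 (map_zero (g.f 0)), Prod.ext ?_ rfl⟩
      show C.d 0 v + a • (0 : C.X 0) = x
      rw [smul_zero, add_zero, hv]
    · have h1 : C.d q x + a • y = 0 := congrArg Prod.fst hx
      have h2 : C.pd q y = 0 := neg_eq_zero.1 (congrArg Prod.snd hx)
      obtain ⟨w, hw0, hw⟩ := h.kerExact q y h2 (congrArg Prod.snd hgx)
      obtain ⟨v, hv0, hv⟩ := h.kerExact (q + 1) (x + a • w)
        (by
          show C.d q (x + a • w) = 0
          rw [map_add, map_smul, hw, h1])
        (by rw [map_add, map_smul, hw0, smul_zero, add_zero]; exact congrArg Prod.fst hgx)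
      refine ⟨(v, -w), Prod.ext hv0 ?_, Prod.ext ?_ ?_⟩
      · show g.f (q + 1) (-w) = 0
        rw [map_neg, hw0, neg_zero]
      · show C.d (q + 1) v + a • (-w) = x
        rw [hv, smul_neg, add_neg_cancel_right]
      · show -(C.d q (-w)) = y
        rw [map_neg, neg_neg, hw]

theorem IsCover.coneL {g : Hom C D} (h : IsCover g) : ∀ l : List A, IsCover (g.coneL l)
  | [] => h
  | a :: l => (h.coneL l).cone a

theorem IsCover.zeroAt {C' D' : Cx A} {g : Hom C C'} {α : Hom D D'} {π : Hom C D} {π' : Hom C' D'}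
    (hπ' : IsCover π') (hc : ∀ n x, π'.f n (g.f n x) = α.f n (π.f n x)) {p : ℕ} (h : ZeroAt α p) : ZeroAt g p := by
  intro x hx
  obtain ⟨v, hv⟩ := h (π.f p x) (by show D.pd p (π.f p x) = 0; rw [← π.comm_pd, hx, map_zero])
  obtain ⟨v', rfl⟩ := hπ'.surj _ v
  obtain ⟨y, -, hy⟩ := hπ'.kerExact p (g.f p x - C'.d p v')
    (by show C'.pd p _ = 0; rw [map_sub, C'.pd_d, sub_zero, ← g.comm_pd, hx, map_zero])
    (by rw [map_sub, π'.comm, hv, hc, sub_self])
  exact ⟨y + v', by rw [map_add, hy, sub_add_cancel]⟩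

/-- The part of a homotopy landing in a degree. -/
def ps (s : ∀ n, C.X n →ₗ[A] D.X (n + 1)) : ∀ n, C.shift n →ₗ[A] D.X n
  | 0 => 0
  | n + 1 => s n

/-- Homotopic to zero in degrees below `m`. -/
def UpTo (g : Hom C D) (m : ℕ) : Prop :=
  ∃ s : ∀ n, C.X n →ₗ[A] D.X (n + 1), ∀ n, n < m → ∀ x, g.f n x = D.d n (s n x) + ps s n (C.pd n x)

theorem upTo_zero (g : Hom C D) : UpTo g 0 := ⟨fun _ => 0, fun _ hn => absurd hn (Nat.not_lt_zero _)⟩

theorem UpTo.congr {g g' : Hom C D} {m : ℕ} (h : UpTo g m) (hgg : ∀ n x, g.f n x = g'.f n x) : UpTo g' m := by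
  obtain ⟨s, hs⟩ := h
  exact ⟨s, fun n hn x => (hgg n x).symm.trans (hs n hn x)⟩

theorem UpTo.comp {g : Hom C D} {m : ℕ} (h : UpTo g m) (k : Hom D E) : UpTo (g.comp k) m := by
  obtain ⟨s, hs⟩ := h
  refine ⟨fun n => k.f (n + 1) ∘ₗ s n, fun n hn x => ?_⟩
  show k.f n (g.f n x) = _
  rw [hs n hn x, map_add, k.comm]
  cases n with
  | zero =>
    show _ + k.f 0 0 = _ + 0
    rw [map_zero]
    rfl
  | succ n => rfl

/-- One more degree after composing with a map which is zero on homology. -/
theorem UpTo.step {g : Hom C D} {m : ℕ} (hg : UpTo g m) (k : Hom D E) (hk : ZeroAt k m)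
    [Module.Projective A (C.X m)] : UpTo (g.comp k) (m + 1) := by
  classical
  obtain ⟨s, hs⟩ := hg
  let r : C.X m →ₗ[A] D.X m := g.f m - ps s m ∘ₗ C.pd m
  have hr : ∀ x, IsCyc D m (r x) := by
    intro x
    show D.pd m (g.f m x - ps s m (C.pd m x)) = 0
    cases m with
    | zero => rfl
    | succ q =>
      show D.d q (g.f (q + 1) x - s q (C.d q x)) = 0
      rw [map_sub, ← g.comm, hs q q.lt_succ_self (C.d q x), C.pd_d, map_zero, add_zero, sub_self]
  have hb : ∀ x, k.f m (r x) ∈ LinearMap.range (E.d m) := fun x => hk _ (hr x)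
  obtain ⟨s', hs'⟩ := Module.projective_lifting_property (E.d m).rangeRestrict
    ((k.f m ∘ₗ r).codRestrict _ hb) (E.d m).surjective_rangeRestrict
  have hs'' : ∀ x, E.d m (s' x) = k.f m (r x) := fun x => congrArg Subtype.val (LinearMap.congr_fun hs' x)
  let t : ∀ n, C.X n →ₗ[A] E.X (n + 1) := Function.update (fun n => k.f (n + 1) ∘ₗ s n) m s'
  have ht : ∀ n, n < m → ∀ x, t n x = k.f (n + 1) (s n x) := by
    intro n hn x
    show Function.update (fun n => k.f (n + 1) ∘ₗ s n) m s' n x = _
    rw [Function.update_of_ne (Nat.ne_of_lt hn)]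
    rfl
  have htps : ∀ n, n ≤ m → ∀ y, ps t n y = k.f n (ps s n y) := by
    intro n hn y
    cases n with
    | zero => exact (map_zero (k.f 0)).symm
    | succ n => exact ht n (by omega) y
  refine ⟨t, fun n hn x => ?_⟩
  rw [htps n (by omega)]
  show k.f n (g.f n x) = _
  rcases Nat.lt_succ_iff_lt_or_eq.1 hn with hn | rfl
  · rw [ht n hn, hs n hn x, map_add, k.comm]
  · show _ = E.d n (Function.update (fun n => k.f (n + 1) ∘ₗ s n) n s' n x) + _
    rw [Function.update_self, hs'', ← map_add]
    show _ = k.f n (g.f n x - ps s n (C.pd n x) + ps s n (C.pd n x))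
    rw [sub_add_cancel]

/-- Multiplication by `b` is homotopic to zero. -/
def IsNullMul (C : Cx A) (b : A) : Prop :=
  ∃ s : ∀ n, C.X n →ₗ[A] C.X (n + 1), ∀ n x, b • x = C.d n (s n x) + ps s n (C.pd n x)

theorem isNullMul_cone_self (C : Cx A) (a : A) : IsNullMul (C.cone a) a := by
  refine ⟨fun n => LinearMap.inr A (C.X (n + 1)) (C.X n) ∘ₗ LinearMap.fst A (C.X n) (C.shift n), ?_⟩
  rintro (_ | q) ⟨x, y⟩
  · refine Prod.ext ?_ rfl
    show a • x = C.d 0 0 + a • x + 0
    rw [map_zero, zero_add, add_zero]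
  · refine Prod.ext ?_ ?_
    · show a • x = C.d (q + 1) 0 + a • x + 0
      rw [map_zero, zero_add, add_zero]
    · show a • y = -(C.d q x) + (C.d q x + a • y)
      rw [neg_add_cancel_left]

theorem IsNullMul.cone {b : A} (h : IsNullMul C b) (a : A) : IsNullMul (C.cone a) b := by
  obtain ⟨s, hs⟩ := h
  refine ⟨fun n => (s n).prodMap (-(ps s n) : C.shift n →ₗ[A] C.X n), ?_⟩
  rintro (_ | q) ⟨x, y⟩
  · refine Prod.ext ?_ rfl
    show b • x = C.d 0 (s 0 x) + a • (-(0 : C.X 0)) + 0
    rw [neg_zero, smul_zero, add_zero]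
    exact hs 0 x
  · refine Prod.ext ?_ ?_
    · show b • x = C.d (q + 1) (s (q + 1) x) + a • (-(s q y)) + s q (C.d q x + a • y)
      rw [hs (q + 1) x, map_add, map_smul, smul_neg]
      show _ + s q (C.d q x) = _
      abel
    · show b • y = -(C.d q (-(s q y))) + -(ps s q (-(C.pd q y)))
      rw [map_neg, map_neg, neg_neg, neg_neg]
      exact hs q y

theorem isNullMul_coneL (C : Cx A) : ∀ l : List A, ∀ b ∈ Ideal.span {c | c ∈ l}, IsNullMul (C.coneL l) b := by
  intro l b hb
  refine Submodule.span_induction ?_ ?_ ?_ ?_ hb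
  · intro c hc
    clear hb
    induction l with
    | nil => exact absurd hc (by simp)
    | cons a l ih =>
      rcases List.mem_cons.1 hc with rfl | hc
      · exact isNullMul_cone_self _ _
      · exact (ih hc).cone a
  · refine ⟨fun _ => 0, fun n x => ?_⟩
    cases n <;> simp [ps]
  · rintro c d - - ⟨s, hs⟩ ⟨t, ht⟩
    refine ⟨fun n => s n + t n, fun n x => ?_⟩
    rw [add_smul, hs, ht]
    cases n with
    | zero => simp [ps]
    | succ n =>
      simp only [ps, LinearMap.add_apply, map_add]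
      abel
  · rintro c d - ⟨s, hs⟩
    refine ⟨fun n => c • s n, fun n x => ?_⟩
    rw [smul_eq_mul, mul_smul, hs]
    cases n <;> simp [ps]

/-- Cycles times the ideal are boundaries. -/
theorem isBd_of_mem_smul {C : Cx A} {I : Ideal A} (h : ∀ b ∈ I, IsNullMul C b) {p : ℕ} {x : C.X p}
    (hx : x ∈ I • LinearMap.ker (C.pd p)) : IsBd C p x := by
  show x ∈ LinearMap.range (C.d p)
  refine Submodule.smul_induction_on hx ?_ fun _ _ => add_mem
  intro b hb z hz
  obtain ⟨s, hs⟩ := h b hb
  rw [hs p z, LinearMap.mem_ker.1 hz, map_zero, add_zero]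
  exact LinearMap.mem_range_self _ _

/-- The images lie in `J` times the complex. -/
def RangeLE (g : Hom C D) (J : Ideal A) : Prop := ∀ n x, g.f n x ∈ (J • ⊤ : Submodule A (D.X n))

theorem RangeLE.cone {g : Hom C D} {J : Ideal A} (h : RangeLE g J) (a : A) : RangeLE (g.cone a) J := by
  rintro n ⟨x, y⟩
  have key : ∀ {M : Type u} [AddCommGroup M] [Module A M] {z : M} (i : M →ₗ[A] (D.X n × D.shift n)),
      z ∈ (J • ⊤ : Submodule A M) → i z ∈ (J • ⊤ : Submodule A (D.X n × D.shift n)) := by
    intro M _ _ z i hz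
    exact Submodule.map_le_iff_le_comap.1 ((Submodule.map_smul'' J ⊤ i).trans_le (Submodule.smul_mono le_rfl le_top)) hz
  have h1 := key (LinearMap.inl A (D.X n) (D.shift n)) (h n x)
  have h2 := key (z := g.sh n y) (LinearMap.inr A (D.X n) (D.shift n)) (by
    cases n with
    | zero => exact zero_mem _
    | succ n => exact h n y)
  have := add_mem h1 h2
  rwa [LinearMap.inl_apply, LinearMap.inr_apply, Prod.mk_add_mk, add_zero, zero_add] at this

theorem RangeLE.coneL {g : Hom C D} {J : Ideal A} (h : RangeLE g J) : ∀ l : List A, RangeLE (g.coneL l) J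
  | [] => h
  | a :: l => (h.coneL l).cone a

theorem finite_cone (h : ∀ n, Module.Finite A (C.X n)) (a : A) (n : ℕ) : Module.Finite A ((C.cone a).X n) := by
  haveI : Module.Finite A (C.shift n) := by
    cases n with
    | zero => exact inferInstanceAs (Module.Finite A PUnit.{u + 1})
    | succ n => exact h n
  haveI := h n
  exact inferInstanceAs (Module.Finite A (C.X n × C.shift n))

theorem finite_coneL (h : ∀ n, Module.Finite A (C.X n)) : ∀ (l : List A) (n : ℕ), Module.Finite A ((C.coneL l).X n)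
  | [] => h
  | a :: l => finite_cone (finite_coneL h l) a

theorem projective_coneL (h : ∀ n, Module.Projective A (C.X n)) :
    ∀ (l : List A) (n : ℕ), Module.Projective A ((C.coneL l).X n)
  | [], n => h n
  | a :: l, n => by
    haveI : Module.Projective A ((C.coneL l).shift n) := by
      cases n with
      | zero =>
        exact Module.Projective.of_lifting_property' fun f g _ =>
          ⟨0, LinearMap.ext fun x => by
            rw [LinearMap.comp_apply, LinearMap.zero_apply, map_zero, Subsingleton.elim x (0 : (C.coneL l).shift 0), map_zero]⟩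
      | succ n => exact projective_coneL h l n
    haveI := projective_coneL h l n
    exact inferInstanceAs (Module.Projective A ((C.coneL l).X n × (C.coneL l).shift n))

/-- Tensoring a complex with a module. -/
def Cx.ten (C : Cx A) (N : Type u) [AddCommGroup N] [Module A N] : Cx A where
  X n := N ⊗[A] C.X n
  d n := (C.d n).lTensor N
  dd n x := by
    rw [← LinearMap.comp_apply, ← LinearMap.lTensor_comp,
      show C.d n ∘ₗ C.d (n + 1) = 0 from LinearMap.ext (C.dd n), LinearMap.lTensor_zero, LinearMap.zero_apply]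

/-- Tensoring a morphism with a module. -/
def Hom.ten (g : Hom C D) (N : Type u) [AddCommGroup N] [Module A N] : Hom (C.ten N) (D.ten N) where
  f n := (g.f n).lTensor N
  comm n x := by
    show (g.f n).lTensor N ((C.d n).lTensor N x) = (D.d n).lTensor N ((g.f (n + 1)).lTensor N x)
    rw [← LinearMap.comp_apply, ← LinearMap.comp_apply, ← LinearMap.lTensor_comp, ← LinearMap.lTensor_comp,
      show g.f n ∘ₗ C.d n = D.d n ∘ₗ g.f (n + 1) from LinearMap.ext (g.comm n)]

variable {N : Type u} [AddCommGroup N] [Module A N]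

theorem UpTo.zeroAt_ten {g : Hom C D} {p : ℕ} (h : UpTo g (p + 1)) : ZeroAt (g.ten N) p := by
  obtain ⟨s, hs⟩ := h
  intro x hx
  refine ⟨(s p).lTensor N x, ?_⟩
  show (D.d p).lTensor N ((s p).lTensor N x) = (g.f p).lTensor N x
  cases p with
  | zero =>
    rw [show g.f 0 = D.d 0 ∘ₗ s 0 from LinearMap.ext fun y => (hs 0 Nat.zero_lt_one y).trans (add_zero _),
      LinearMap.lTensor_comp, LinearMap.comp_apply]
  | succ q =>
    rw [show g.f (q + 1) = D.d (q + 1) ∘ₗ s (q + 1) + s q ∘ₗ C.d q from LinearMap.ext (hs (q + 1) (Nat.lt_succ_self _)),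
      LinearMap.lTensor_add, LinearMap.add_apply, LinearMap.lTensor_comp, LinearMap.lTensor_comp,
      LinearMap.comp_apply, LinearMap.comp_apply, show (C.d q).lTensor N x = 0 from hx, map_zero, add_zero]

/-- Functoriality of tensoring with `N`, as an equation of values. -/
theorem lT {M₁ M₂ M₂' M₃ : Type u} [AddCommGroup M₁] [Module A M₁] [AddCommGroup M₂] [Module A M₂] [AddCommGroup M₂']
    [Module A M₂'] [AddCommGroup M₃] [Module A M₃] {f : M₂ →ₗ[A] M₃} {g : M₁ →ₗ[A] M₂} {f' : M₂' →ₗ[A] M₃}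
    {g' : M₁ →ₗ[A] M₂'} (h : ∀ x, f (g x) = f' (g' x)) (x : N ⊗[A] M₁) :
    f.lTensor N (g.lTensor N x) = f'.lTensor N (g'.lTensor N x) := by
  rw [← LinearMap.comp_apply, ← LinearMap.lTensor_comp, ← LinearMap.comp_apply, ← LinearMap.lTensor_comp,
    show f ∘ₗ g = f' ∘ₗ g' from LinearMap.ext h]

theorem zeroAt_ten_of_cone {g : Hom C D} {a : A} (ha : ∀ z : N, a • z = 0) {p : ℕ}
    (h : ZeroAt ((g.cone a).ten N) p) : ZeroAt (g.ten N) p := by
  intro x hx
  obtain ⟨y, hy⟩ := h ((LinearMap.inl A (C.X p) (C.shift p)).lTensor N x) (by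
    cases p with
    | zero => rfl
    | succ q =>
      refine (lT (N := N) (f := (C.cone a).d q) (g := LinearMap.inl A (C.X (q + 1)) (C.X q))
        (f' := LinearMap.inl A (C.X q) (C.shift q)) (g' := C.d q) (fun z => Prod.ext
          (show C.d q z + a • (0 : C.X q) = C.d q z by rw [smul_zero, add_zero])
          (show -(C.pd q 0) = 0 by rw [map_zero, neg_zero])) x).trans ?_
      exact (congrArg _ hx).trans (map_zero _))
  have hz : ∀ t : N ⊗[A] D.X p, a • t = 0 := by
    intro t
    induction t using TensorProduct.induction_on with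
    | zero => rw [smul_zero]
    | tmul n m => rw [TensorProduct.smul_tmul', ha, TensorProduct.zero_tmul]
    | add u v hu hv => rw [smul_add, hu, hv, add_zero]
  have key : ∀ t : N ⊗[A] (D.X (p + 1) × D.X p),
      (LinearMap.fst A (D.X p) (D.shift p)).lTensor N (((D.cone a).d p).lTensor N t) =
        (D.d p).lTensor N ((LinearMap.fst A (D.X (p + 1)) (D.X p)).lTensor N t) := by
    intro t
    induction t using TensorProduct.induction_on with
    | zero => simp only [map_zero]
    | tmul n m =>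
      show n ⊗ₜ[A] (D.d p m.1 + a • m.2) = n ⊗ₜ[A] D.d p m.1
      rw [tmul_add, tmul_smul, hz, add_zero]
    | add u v hu hv =>
      rw [map_add (LinearMap.lTensor N ((D.cone a).d p)), map_add, hu, hv, map_add, map_add]
  refine ⟨(LinearMap.fst A (D.X (p + 1)) (D.X p)).lTensor N y, ?_⟩
  refine (key y).symm.trans ((congrArg _ hy).trans ?_)
  exact (lT (N := N) (f := LinearMap.fst A (D.X p) (D.shift p)) (g := (g.cone a).f p)
    (f' := g.f p) (g' := LinearMap.fst A (C.X p) (C.shift p)) (fun z => rfl) _).trans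
    (congrArg _ ((lT (N := N) (f := LinearMap.fst A (C.X p) (C.shift p))
      (g := LinearMap.inl A (C.X p) (C.shift p)) (f' := LinearMap.id) (g' := LinearMap.id) (fun z => rfl) x).trans
      (by simp)))

theorem zeroAt_ten_of_coneL {g : Hom C D} {p : ℕ} : ∀ l : List A, (∀ a ∈ l, ∀ z : N, a • z = 0) →
    ZeroAt ((g.coneL l).ten N) p → ZeroAt (g.ten N) p
  | [], _, h => h
  | a :: l, ha, h => zeroAt_ten_of_coneL l (fun b hb => ha b (List.mem_cons_of_mem _ hb))
      (zeroAt_ten_of_cone (ha a List.mem_cons_self) h)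

/-- A module in degree zero. -/
@[reducible] def singleX (M : Type u) : ℕ → Type u
  | 0 => M
  | _ + 1 => PUnit

instance (M : Type u) [AddCommGroup M] : ∀ n, AddCommGroup (singleX M n)
  | 0 => inferInstanceAs (AddCommGroup M)
  | _ + 1 => inferInstanceAs (AddCommGroup PUnit.{u + 1})

instance (M : Type u) [AddCommGroup M] [Module A M] : ∀ n, Module A (singleX M n)
  | 0 => inferInstanceAs (Module A M)
  | _ + 1 => inferInstanceAs (Module A PUnit.{u + 1})

/-- A module as a complex. -/
def single (M : Type u) [AddCommGroup M] [Module A M] : Cx A where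
  X n := singleX M n
  d _ := 0
  dd _ _ := rfl

theorem exactFrom_single (M : Type u) [AddCommGroup M] [Module A M] : ExactFrom (single (A := A) M) 1 := by
  rintro (_ | q) hq x -
  · omega
  · exact ⟨0, @Subsingleton.elim _ (inferInstanceAs (Subsingleton PUnit.{u + 1})) _ _⟩

theorem finite_single (M : Type u) [AddCommGroup M] [Module A M] [Module.Finite A M] :
    ∀ n, Module.Finite A ((single (A := A) M).X n)
  | 0 => inferInstanceAs (Module.Finite A M)
  | _ + 1 => inferInstanceAs (Module.Finite A PUnit.{u + 1})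

/-- The map of one-term complexes. -/
def singleMap {M M' : Type u} [AddCommGroup M] [Module A M] [AddCommGroup M'] [Module A M'] (α : M →ₗ[A] M') :
    Hom (single (A := A) M) (single (A := A) M') where
  f
    | 0 => α
    | _ + 1 => 0
  comm n _ := by
    cases n with
    | zero => exact map_zero α
    | succ n => rfl

theorem rangeLE_singleMap {M M' : Type u} [AddCommGroup M] [Module A M] [AddCommGroup M'] [Module A M']
    {α : M →ₗ[A] M'} {J : Ideal A} (h : ∀ x, α x ∈ (J • ⊤ : Submodule A M')) : RangeLE (singleMap α) J := by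
  intro n x
  cases n with
  | zero => exact h x
  | succ n => exact zero_mem _

/-- The Artin–Rees step: maps with small image are zero on homology. -/
theorem exists_zeroAt (D : Cx A) [IsNoetherianRing A] {I : Ideal A} (hfin : ∀ n, Module.Finite A (D.X n))
    (hnull : ∀ b ∈ I, IsNullMul D b) {r : ℕ} (hex : ExactFrom D r) :
    ∃ e, ∀ (C : Cx A) (g : Hom C D), RangeLE g (I ^ e) → ∀ p, ZeroAt g p := by
  have hp : ∀ p, ∃ e, ∀ (C : Cx A) (g : Hom C D), RangeLE g (I ^ e) → ZeroAt g p := by
    intro p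
    haveI := hfin p
    obtain ⟨k, hk⟩ := Ideal.exists_pow_inf_eq_pow_smul I (LinearMap.ker (D.pd p))
    refine ⟨k + 1, fun C g hg x hx => isBd_of_mem_smul hnull ?_⟩
    have h1 : g.f p x ∈ I ^ (k + 1) • ⊤ ⊓ LinearMap.ker (D.pd p) :=
      ⟨hg p x, by show D.pd p (g.f p x) = 0; rw [← g.comm_pd, hx, map_zero]⟩
    rw [hk (k + 1) k.le_succ, Nat.add_sub_cancel_left, pow_one] at h1
    exact Submodule.smul_mono (le_refl I) inf_le_right h1
  choose e he using hp
  refine ⟨(Finset.range r).sup e, fun C g hg p => ?_⟩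
  by_cases hpr : p < r
  · exact he p C g fun n x => Submodule.smul_mono_left
      (Ideal.pow_le_pow_right (Finset.le_sup (Finset.mem_range.2 hpr))) (hg n x)
  · intro x hx
    exact hex p (by omega) _ (by show D.pd p (g.f p x) = 0; rw [← g.comm_pd, hx, map_zero])

end Groth.Agent.TorDevissage.Cone
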